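import Mathlib
import Cfsg.Prelude.Def_HallClasses

/-!
# Fusion in π-homogeneous groups with a dominating π-subgroup

If every π-subgroup of a finite group is conjugate into a fixed π-subgroup `M`, and
q-elements (q ∉ π) normalizing a π-subgroup centralize it, then `M` controls the fusion of
its elements.
-/

set_option autoImplicit false

namespace CfsgLib.DPiHom

open Subgroup

universe u

variable {G : Type u} [Group G]

/-- All prime divisors of `n` lie in `π`. -/
def PiNum (π : Set ℕ) (n : ℕ) : Prop := ∀ q : ℕ, q.Prime → q ∣ n → q ∈ π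

theorem PiNum.of_dvd {π : Set ℕ} {m n : ℕ} (h : PiNum π n) (hd : m ∣ n) : PiNum π m :=
  fun q hq hqm => h q hq (hqm.trans hd)

theorem PiNum.mul {π : Set ℕ} {m n : ℕ} (hm : PiNum π m) (hn : PiNum π n) : PiNum π (m * n) :=
  fun q hq h => (hq.dvd_mul.1 h).elim (hm q hq) (hn q hq)

theorem piNum_pow {π : Set ℕ} {p : ℕ} (hp : p.Prime) (hpπ : p ∈ π) (k : ℕ) : PiNum π (p ^ k) :=
  fun q hq h => ((Nat.prime_dvd_prime_iff_eq hq hp).1 (hq.dvd_of_dvd_pow h)) ▸ hpπ

/-- Elements of prime power order outside `π` normalizing a π-subgroup centralize it. -/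
def Homog (π : Set ℕ) (G : Type u) [Group G] : Prop :=
  ∀ H : Subgroup G, PiNum π (Nat.card H) → ∀ x ∈ normalizer (H : Set G),
    ∀ q k : ℕ, q.Prime → q ∉ π → orderOf x = q ^ k → ∀ h ∈ H, x * h = h * x

/-- `M` is a π-subgroup into which every π-subgroup can be conjugated. -/
structure Dominant (π : Set ℕ) (M : Subgroup G) : Prop where
  pi : PiNum π (Nat.card M)
  dom : ∀ H : Subgroup G, PiNum π (Nat.card H) → ∃ g : G, ∀ h ∈ H, g * h * g⁻¹ ∈ M

theorem piNum_sup [Finite G] {π : Set ℕ} {A B : Subgroup G}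
    (hA : PiNum π (Nat.card A)) (hB : PiNum π (Nat.card B))
    (h : A ≤ normalizer (B : Set G)) : PiNum π (Nat.card ↥(A ⊔ B)) := by
  have hle : A ⊔ B ≤ normalizer (B : Set G) := sup_le h le_normalizer
  have e : B.relIndex (A ⊔ B) = B.relIndex A := by
    have : (B.subgroupOf (normalizer (B : Set G))).Normal := inferInstance
    have e1 := Subgroup.relIndex_sup_right (H := A.subgroupOf (normalizer (B : Set G)))
      (K := B.subgroupOf (normalizer (B : Set G)))
    rw [← subgroupOf_sup h le_normalizer, relIndex_subgroupOf hle,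
      relIndex_subgroupOf h] at e1
    exact e1
  rw [← card_mul_index (B.subgroupOf (A ⊔ B)),
    Nat.card_congr (subgroupOfEquivOfLe (le_sup_right : B ≤ A ⊔ B)).toEquiv]
  refine hB.mul ?_
  change PiNum π (B.relIndex (A ⊔ B))
  rw [e]
  exact hA.of_dvd (relIndex_dvd_card _ _)

/-- A π-subgroup covering `X / C` and containing a Sylow `p`-subgroup. -/
theorem exists_cover {X : Type u} [Group X] [Finite X] (π : Set ℕ) (C : Subgroup X) [C.Normal]
    (p : ℕ) [Fact p.Prime] (hp : p ∈ π)
    (hq : ∀ x : X, ∀ q k : ℕ, q.Prime → q ∉ π → orderOf x = q ^ k → x ∈ C) :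
    ∃ R : Subgroup X, PiNum π (Nat.card R) ∧ C ⊔ R = ⊤ ∧ ¬ p ∣ R.index := by
  classical
  obtain ⟨U0⟩ : Nonempty (Sylow p C) := inferInstance
  let V : Subgroup X := (U0 : Subgroup C).map C.subtype
  let S : Set (Subgroup X) := {L | L ≤ normalizer (V : Set X) ∧ C ⊔ L = ⊤}
  have hS : S.Nonempty := by
    refine ⟨normalizer (V : Set X), le_rfl, ?_⟩
    rw [sup_comm]
    exact Sylow.normalizer_sup_eq_top U0
  obtain ⟨L, hL⟩ := (S.toFinite).exists_minimal hS
  obtain ⟨hLV, hLC⟩ := hL.prop
  have hLπ : PiNum π (Nat.card L) := by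
    intro q hqp hqd
    by_contra hqπ
    have : Fact q.Prime := ⟨hqp⟩
    let D : Subgroup L := C.subgroupOf L
    obtain ⟨Q⟩ : Nonempty (Sylow q L) := inferInstance
    have hQD : (Q : Subgroup L) ≤ D := by
      intro x hx
      obtain ⟨k, hk⟩ := IsPGroup.iff_orderOf.1 Q.isPGroup' ⟨x, hx⟩
      rw [Subgroup.orderOf_mk] at hk
      exact hq _ q k hqp hqπ ((orderOf_injective L.subtype L.subtype_injective x).trans hk)
    have sup_of : ∀ K : Subgroup L, D ⊔ K = ⊤ → K = ⊤ := by
      intro K hK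
      have h1 : K.map L.subtype ∈ S := by
        refine ⟨(map_subtype_le K).trans hLV, top_unique ?_⟩
        rw [← hLC]
        refine sup_le le_sup_left ?_
        intro x hx
        have h2 : (⟨x, hx⟩ : L) ∈ D ⊔ K := hK ▸ mem_top _
        have h3 : x ∈ (D ⊔ K).map L.subtype := ⟨_, h2, rfl⟩
        rw [Subgroup.map_sup] at h3
        exact (sup_le_sup_right (map_comap_le _ _) _ : _) h3
      have h4 := hL.le_of_le h1 (map_subtype_le K)
      refine top_unique fun x _ => ?_
      obtain ⟨y, hy, he⟩ := h4 x.2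
      rwa [← Subtype.ext he]
    let Q' : Sylow q D := Q.subtype hQD
    have hQn : (Q : Subgroup L).Normal := by
      have h1 := Sylow.normalizer_sup_eq_top Q'
      rw [Sylow.coe_subtype, subgroupOf_map_subtype, inf_of_le_left hQD] at h1
      rw [sup_comm] at h1
      exact normalizer_eq_top_iff.1 (sup_of _ h1)
    obtain ⟨K, hK⟩ := Subgroup.exists_right_complement'_of_coprime
      (N := (Q : Subgroup L)) Q.card_coprime_index
    have hK1 : K = ⊤ := sup_of K (top_unique (hK.sup_eq_top ▸ sup_le_sup_right hQD K))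
    have hQ1 : (Q : Subgroup L) = ⊥ := by
      rw [← hK.disjoint.eq_bot, hK1, inf_top_eq]
    have := Q.dvd_card_of_dvd_card hqd
    rw [hQ1, Subgroup.card_bot] at this
    exact hqp.not_dvd_one this
  refine ⟨L ⊔ V, piNum_sup hLπ ?_ hLV, ?_, ?_⟩
  · obtain ⟨k, hk⟩ := IsPGroup.iff_card.1 U0.isPGroup'
    rw [Subgroup.card_map_of_injective C.subtype_injective, hk]
    exact piNum_pow Fact.out hp k
  · exact top_unique (hLC ▸ sup_le_sup_left le_sup_left C)
  · intro hd
    have hR : C ⊔ (L ⊔ V) = ⊤ := top_unique (hLC ▸ sup_le_sup_left le_sup_left C)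
    have hidx : (L ⊔ V).index = (C ⊓ (L ⊔ V)).relIndex C := by
      have e1 := relIndex_mul_index (inf_le_left : C ⊓ (L ⊔ V) ≤ C)
      have e2 := relIndex_mul_index (inf_le_right : C ⊓ (L ⊔ V) ≤ L ⊔ V)
      have e3 : (C ⊓ (L ⊔ V)).relIndex (L ⊔ V) = C.index := by
        rw [inf_relIndex_right, ← relIndex_sup_left (K := C) (H := L ⊔ V), hR,
          relIndex_top_right]
      rw [e3, ← e1, mul_comm] at e2
      exact Nat.eq_of_mul_eq_mul_right (Nat.pos_of_ne_zero index_ne_zero_of_finite) e2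
    rw [hidx] at hd
    have h1 : V.relIndex C = (U0 : Subgroup C).index := by
      unfold Subgroup.relIndex
      congr 1
      exact comap_map_eq_self_of_injective C.subtype_injective _
    exact U0.not_dvd_index (h1 ▸ hd.trans (relIndex_dvd_of_le_left C
      (le_inf (map_subtype_le _) le_sup_right)))

theorem mem_centralizer_conj {a c : G} {S T : Subgroup G} (hc : c ∈ centralizer (S : Set G))
    (h : ∀ t ∈ T, a * t * a⁻¹ ∈ S) : a⁻¹ * c * a ∈ centralizer (T : Set G) := by
  rw [mem_centralizer_iff] at hc ⊢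
  intro t ht
  have h1 := hc _ (h t ht)
  calc t * (a⁻¹ * c * a) = a⁻¹ * ((a * t * a⁻¹) * c) * a := by group
    _ = a⁻¹ * (c * (a * t * a⁻¹)) * a := by rw [h1]
    _ = (a⁻¹ * c * a) * t := by group

theorem mem_normalizer_of_conj_mem [Finite G] {H : Subgroup G} {g : G}
    (h : ∀ x ∈ H, g * x * g⁻¹ ∈ H) : g ∈ normalizer (H : Set G) :=
  mem_normalizer_fintype h

variable [Finite G] {π : Set ℕ} {M : Subgroup G}

/-- A Sylow `p`-subgroup of the normalizer of `T` inside `M` covering `Aut_G(T)`. -/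
theorem exists_local (hM : Dominant π M) (hG : Homog π G) {p : ℕ} [Fact p.Prime] (hp : p ∈ π)
    {T : Subgroup G} (hT : IsPGroup p T) (hTM : T ≤ M)
    (ih : ∀ U : Subgroup G, IsPGroup p U → U ≤ M → Nat.card T < Nat.card U → ∀ g : G,
      (∀ u ∈ U, g * u * g⁻¹ ∈ M) → ∃ m ∈ M, ∃ c ∈ centralizer (U : Set G), g = m * c) :
    ∃ R : Subgroup G, R ≤ M ∧ R ≤ normalizer (T : Set G) ∧
      normalizer (T : Set G) ≤ centralizer (T : Set G) ⊔ R ∧
      ¬ p ∣ R.relIndex (normalizer (T : Set G)) := by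
  classical
  let N : Subgroup G := normalizer (T : Set G)
  let C : Subgroup N := (centralizer (T : Set G)).subgroupOf N
  have hTπ : PiNum π (Nat.card T) := by
    obtain ⟨k, hk⟩ := IsPGroup.iff_card.1 hT
    rw [hk]
    exact piNum_pow Fact.out hp k
  have hCn : C.Normal := by
    refine ⟨fun c hc n => ?_⟩
    change (n : G) * c * (n : G)⁻¹ ∈ centralizer (T : Set G)
    have h1 : ∀ t ∈ T, (n : G)⁻¹ * t * ((n : G)⁻¹)⁻¹ ∈ T := fun t ht =>
      (mem_normalizer_iff.1 (inv_mem n.2) t).1 ht
    simpa using mem_centralizer_conj (a := (n : G)⁻¹) hc h1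
  have hq : ∀ x : N, ∀ q k : ℕ, q.Prime → q ∉ π → orderOf x = q ^ k → x ∈ C := by
    intro x q k hqp hqπ hx
    change (x : G) ∈ centralizer (T : Set G)
    refine mem_centralizer_iff.2 fun t ht => ?_
    exact (hG T hTπ x x.2 q k hqp hqπ (by rw [orderOf_coe]; exact hx) t ht).symm
  obtain ⟨R0, hR0π, hR0C, hR0p⟩ := exists_cover π C p hp hq
  -- add `T`, keep covering
  let T' : Subgroup N := T.subgroupOf N
  have hT'n : T'.Normal := Subgroup.normal_in_normalizer
  have hTN : T ≤ N := le_normalizer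
  have hR1π : PiNum π (Nat.card ↥(R0 ⊔ T')) := by
    refine piNum_sup hR0π ?_ (by rw [normalizer_eq_top_iff.2 hT'n]; exact le_top)
    rwa [Nat.card_congr (subgroupOfEquivOfLe hTN).toEquiv]
  obtain ⟨U⟩ : Nonempty (Sylow p ↥(M.subgroupOf N)) := inferInstance
  let U' : Subgroup N := (U : Subgroup ↥(M.subgroupOf N)).map (M.subgroupOf N).subtype
  have hU' : IsPGroup p U' := U.isPGroup'.map _
  let R1 : Subgroup N := R0 ⊔ T'
  have hR1p : ¬ p ∣ R1.index := fun h => hR0p (h.trans (index_dvd_of_le le_sup_left))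
  have hR1C : C ⊔ R1 = ⊤ := top_unique (hR0C ▸ sup_le_sup_left le_sup_left C)
  -- move a Sylow subgroup of `R1` over `U'`
  obtain ⟨P⟩ : Nonempty (Sylow p R1) := inferInstance
  let P' : Subgroup N := (P : Subgroup R1).map R1.subtype
  have hP'p : ¬ p ∣ P'.index := by
    intro h
    change p ∣ ((P : Subgroup R1).map R1.subtype).index at h
    rw [index_map_subtype] at h
    exact ((Fact.out : p.Prime).dvd_mul.1 h).elim P.not_dvd_index hR1p
  let PS : Sylow p N := IsPGroup.toSylow (P := P') (P.isPGroup'.map _) hP'p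
  obtain ⟨Q, hQ⟩ := hU'.exists_le_sylow
  obtain ⟨n, hn⟩ := MulAction.exists_smul_eq N PS Q
  let R2 : Subgroup N := R1.map (MulAut.conj n).toMonoidHom
  have hR2C : C ⊔ R2 = ⊤ := by
    have := congrArg (Subgroup.map (MulAut.conj n).toMonoidHom) hR1C
    rw [Subgroup.map_sup, Subgroup.map_top_of_surjective _ (MulEquiv.surjective _)] at this
    refine top_unique (this ▸ sup_le_sup_right ?_ _)
    rintro _ ⟨c, hc, rfl⟩
    exact hCn.conj_mem c hc n
  have hUR2 : U' ≤ R2 := by
    refine hQ.trans ?_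
    rw [← hn]
    rintro _ ⟨x, hx, rfl⟩
    exact ⟨x, map_subtype_le _ hx, rfl⟩
  have hTR2 : T' ≤ R2 := by
    intro t ht
    refine ⟨(MulAut.conj n).symm t, ?_, (MulAut.conj n).apply_symm_apply t⟩
    refine (le_sup_right : T' ≤ R1) ?_
    simpa [MulAut.conj_symm_apply] using hT'n.conj_mem t ht n⁻¹
  have hR2p : ¬ p ∣ R2.index := by
    rwa [show R2.index = R1.index from index_map_equiv R1 (MulAut.conj n)]
  let R2G : Subgroup G := R2.map N.subtype
  have hR2Gπ : PiNum π (Nat.card R2G) := by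
    rw [card_map_of_injective N.subtype_injective,
      card_map_of_injective (MulAut.conj n).injective]
    exact hR1π
  obtain ⟨a, ha⟩ := hM.dom R2G hR2Gπ
  -- find an element of the normalizer conjugating `R2` into `M`
  suffices h : ∃ c : N, ∀ r ∈ R2, (c : G) * r * (c : G)⁻¹ ∈ M by
    obtain ⟨c, hc⟩ := h
    let R3 : Subgroup N := R2.map (MulAut.conj c).toMonoidHom
    have hR3C : C ⊔ R3 = ⊤ := by
      have := congrArg (Subgroup.map (MulAut.conj c).toMonoidHom) hR2C
      rw [Subgroup.map_sup, Subgroup.map_top_of_surjective _ (MulEquiv.surjective _)] at this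
      refine top_unique (this ▸ sup_le_sup_right ?_ _)
      rintro _ ⟨d, hd, rfl⟩
      exact hCn.conj_mem d hd c
    refine ⟨R3.map N.subtype, ?_, map_subtype_le _, ?_, ?_⟩
    · rintro _ ⟨_, ⟨r, hr, rfl⟩, rfl⟩
      exact hc r hr
    · intro x hx
      have h1 : (⟨x, hx⟩ : N) ∈ C ⊔ R3 := hR3C ▸ mem_top _
      have h2 : x ∈ (C ⊔ R3).map N.subtype := ⟨_, h1, rfl⟩
      rw [Subgroup.map_sup] at h2
      exact (sup_le_sup_right (map_comap_le _ _) _ : _) h2
    · rw [Subgroup.relIndex, subgroupOf, comap_map_eq_self_of_injective N.subtype_injective,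
        show R3.index = R2.index from index_map_equiv R2 (MulAut.conj c)]
      exact hR2p
  obtain ⟨TS, hTS⟩ := (hT.of_equiv (subgroupOfEquivOfLe hTM).symm).exists_le_sylow
  let TG : Subgroup G := (TS : Subgroup M).map M.subtype
  have hTTG : T ≤ TG := fun t ht => ⟨⟨t, hTM ht⟩, hTS ht, rfl⟩
  have haT : ∀ t ∈ T, a * t * a⁻¹ ∈ M := fun t ht =>
    ha t ⟨⟨t, hTN ht⟩, hTR2 ht, rfl⟩
  by_cases hfull : TG = T
  · -- `T` is a Sylow subgroup of `M`
    have hTc : Nat.card TS = Nat.card T := by
      rw [← card_map_of_injective M.subtype_injective, ← hfull]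
    let T2 : Subgroup M := (T.map (MulAut.conj a).toMonoidHom).subgroupOf M
    have hT2M : T.map (MulAut.conj a).toMonoidHom ≤ M := by
      rintro _ ⟨t, ht, rfl⟩
      exact haT t ht
    have hT2c : Nat.card T2 = Nat.card T := by
      rw [Nat.card_congr (subgroupOfEquivOfLe hT2M).toEquiv,
        card_map_of_injective (MulAut.conj a).injective]
    obtain ⟨T2S, hT2S⟩ : ∃ S : Sylow p M, T2 = S := by
      obtain ⟨S, hS⟩ := ((hT.map _).of_equiv (subgroupOfEquivOfLe hT2M).symm).exists_le_sylow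
      refine ⟨S, Subgroup.eq_of_le_of_card_ge hS ?_⟩
      rw [hT2c, ← hTc, S.card_eq_multiplicity, TS.card_eq_multiplicity]
    obtain ⟨m, hm⟩ := MulAction.exists_smul_eq M T2S TS
    have hma : (m : G) * a ∈ N := by
      refine mem_normalizer_of_conj_mem fun t ht => ?_
      have h1 : (⟨a * t * a⁻¹, haT t ht⟩ : M) ∈ T2 := ⟨t, ht, rfl⟩
      have h2 : m * (⟨a * t * a⁻¹, haT t ht⟩ : M) * m⁻¹ ∈ (TS : Subgroup M) := by
        rw [← hm]
        exact ⟨_, hT2S ▸ h1, rfl⟩
      have h3 : ((m * (⟨a * t * a⁻¹, haT t ht⟩ : M) * m⁻¹ : M) : G) ∈ TG := ⟨_, h2, rfl⟩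
      rw [hfull] at h3
      simpa [mul_assoc] using h3
    refine ⟨⟨_, hma⟩, fun r hr => ?_⟩
    have h1 := M.mul_mem (M.mul_mem m.2 (ha r ⟨r, hr, rfl⟩)) (M.inv_mem m.2)
    simpa [mul_assoc] using h1
  · -- `T` is smaller than `U`
    let UG : Subgroup G := U'.map N.subtype
    have hUM : UG ≤ M := by
      rintro _ ⟨u, ⟨v, -, rfl⟩, rfl⟩
      exact v.2
    have hlt : Nat.card T < Nat.card UG := by
      have hlt' : T < TG := lt_of_le_of_ne hTTG (Ne.symm hfull)
      have hnil : Group.IsNilpotent TG := (TS.isPGroup'.map M.subtype).isNilpotent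
      have h1 : T.subgroupOf TG < normalizer ((T.subgroupOf TG : Subgroup TG) : Set TG) := by
        refine Group.normalizerCondition_of_isNilpotent _ ?_
        refine lt_top_iff_ne_top.2 fun h => ?_
        exact hfull (le_antisymm (subgroupOf_eq_top.1 h) hTTG)
      let W : Subgroup G := (normalizer ((T.subgroupOf TG : Subgroup TG) : Set TG)).map TG.subtype
      have hW : Nat.card T < Nat.card W := by
        rw [card_map_of_injective TG.subtype_injective,
          ← Nat.card_congr (subgroupOfEquivOfLe hTTG).toEquiv]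
        exact Set.Finite.card_lt_card (Set.toFinite _) (SetLike.coe_ssubset_coe.2 h1)
      have hWN : W ≤ N := by
        rintro _ ⟨w, hw, rfl⟩
        refine mem_normalizer_of_conj_mem fun t ht => ?_
        exact (mem_normalizer_iff.1 hw ⟨t, hTTG ht⟩).1 ht
      have hWM : W ≤ M := (map_subtype_le _).trans (map_subtype_le _)
      let W' : Subgroup N := W.subgroupOf N
      have hW'M : W' ≤ M.subgroupOf N := fun w hw => hWM hw
      have hWp : IsPGroup p W :=
        ((TS.isPGroup'.map M.subtype).to_subgroup _).map TG.subtype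
      obtain ⟨W2, hW2⟩ := ((hWp.of_equiv (subgroupOfEquivOfLe hWN).symm).of_equiv
        (subgroupOfEquivOfLe hW'M).symm).exists_le_sylow
      refine hW.trans_le ?_
      calc Nat.card W = Nat.card (W'.subgroupOf (M.subgroupOf N)) := by
            rw [Nat.card_congr (subgroupOfEquivOfLe hW'M).toEquiv,
              Nat.card_congr (subgroupOfEquivOfLe hWN).toEquiv]
        _ ≤ Nat.card W2 := card_le_of_le hW2
        _ = Nat.card U := by rw [W2.card_eq_multiplicity, U.card_eq_multiplicity]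
        _ = Nat.card UG := by
            rw [card_map_of_injective N.subtype_injective,
              card_map_of_injective (M.subgroupOf N).subtype_injective]
    obtain ⟨m, hm, c, hc, hac⟩ := ih UG (hU'.map _) hUM hlt a (by
      rintro _ ⟨u, hu, rfl⟩
      exact ha u ⟨u, hUR2 hu, rfl⟩)
    -- `T` lies in `UG`
    have hTU : T ≤ UG := by
      obtain ⟨T3, hT3⟩ := ((hT.of_equiv (subgroupOfEquivOfLe hTN).symm).of_equiv
        (subgroupOfEquivOfLe (show T' ≤ M.subgroupOf N from fun t ht => hTM ht)).symm).exists_le_sylow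
      obtain ⟨k, hk⟩ := MulAction.exists_smul_eq (M.subgroupOf N) T3 U
      intro t ht
      have h0 : (k : N)⁻¹ * ⟨t, hTN ht⟩ * (k : N) ∈ T' := by
        simpa using hT'n.conj_mem ⟨t, hTN ht⟩ ht (k : N)⁻¹
      refine ⟨⟨t, hTN ht⟩, ⟨⟨⟨t, hTN ht⟩, hTM ht⟩, ?_, rfl⟩, rfl⟩
      rw [← hk]
      refine ⟨k⁻¹ * ⟨⟨t, hTN ht⟩, hTM ht⟩ * k, hT3 ?_, ?_⟩
      · exact h0
      · simp [mul_assoc]
    have hcT : c ∈ centralizer (T : Set G) := centralizer_le hTU hc
    refine ⟨⟨c, centralizer_le_normalizer _ hcT⟩, fun r hr => ?_⟩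
    have h1 := M.mul_mem (M.mul_mem (M.inv_mem hm) (ha r ⟨r, hr, rfl⟩)) hm
    simpa [hac, mul_assoc] using h1

/-- `M` strongly controls the fusion of its `p`-subgroups. -/
theorem controls_p (hM : Dominant π M) (hG : Homog π G) (p : ℕ) [Fact p.Prime] (hp : p ∈ π)
    (T : Subgroup G) (hT : IsPGroup p T) (hTM : T ≤ M) (g : G)
    (hg : ∀ t ∈ T, g * t * g⁻¹ ∈ M) : ∃ m ∈ M, ∃ c ∈ centralizer (T : Set G), g = m * c := by
  classical
  induction hd : Nat.card G - Nat.card T using Nat.strong_induction_on generalizing T g with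
  | _ d IH =>
  subst hd
  have IH' : ∀ U : Subgroup G, IsPGroup p U → U ≤ M → Nat.card T < Nat.card U → ∀ g : G,
      (∀ u ∈ U, g * u * g⁻¹ ∈ M) → ∃ m ∈ M, ∃ c ∈ centralizer (U : Set G), g = m * c :=
    fun U hU hUM hlt g hg => IH _ (by
      have := card_le_card_group U
      omega) U hU hUM g hg rfl
  obtain ⟨R, hRM, hRN, hRC, hRp⟩ := exists_local hM hG hp hT hTM IH'
  let S : Subgroup G := T.map (MulAut.conj g).toMonoidHom
  have hSM : S ≤ M := by
    rintro _ ⟨t, ht, rfl⟩
    exact hg t ht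
  have hScard : Nat.card S = Nat.card T := card_map_of_injective (MulAut.conj g).injective
  obtain ⟨R', hR'M, hR'N, hR'C, hR'p⟩ := exists_local hM hG hp (hT.map _) hSM
    (fun U hU hUM hlt => IH' U hU hUM (hScard ▸ hlt))
  -- splitting of elements of a normalizer
  have split : ∀ (A B : Subgroup G), B ≤ normalizer (A : Set G) → B ≤ M →
      normalizer (A : Set G) ≤ centralizer (A : Set G) ⊔ B →
      ∀ n ∈ normalizer (A : Set G), ∃ m ∈ M, ∃ c ∈ centralizer (A : Set G), n = c * m := by
    intro A B hBN hBM hBC n hn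
    have h1 : B ≤ normalizer ((centralizer (A : Set G) : Subgroup G) : Set G) := by
      intro b hb
      refine mem_normalizer_of_conj_mem fun x hx => ?_
      have h2 : ∀ t ∈ A, b⁻¹ * t * (b⁻¹)⁻¹ ∈ A := fun t ht =>
        (mem_normalizer_iff.1 (inv_mem (hBN hb)) t).1 ht
      simpa using mem_centralizer_conj (a := b⁻¹) hx h2
    have h3 := hBC hn
    rw [← SetLike.mem_coe, coe_mul_of_right_le_normalizer_left _ _ h1] at h3
    obtain ⟨c, hc, b, hb, he⟩ := h3
    exact ⟨b, hBM hb, c, hc, he.symm⟩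
  obtain ⟨P⟩ : Nonempty (Sylow p R) := inferInstance
  let PG : Subgroup G := (P : Subgroup R).map R.subtype
  by_cases hbig : Nat.card T < Nat.card PG
  · -- a larger subgroup is available
    obtain ⟨P'⟩ : Nonempty (Sylow p R') := inferInstance
    let P'G : Subgroup G := (P' : Subgroup R').map R'.subtype
    let NS : Subgroup G := normalizer (S : Set G)
    let A : Subgroup G := PG.map (MulAut.conj g).toMonoidHom
    have hAN : A ≤ NS := by
      rintro _ ⟨x, hx, rfl⟩
      refine mem_normalizer_of_conj_mem ?_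
      rintro _ ⟨t, ht, rfl⟩
      have h1 := (mem_normalizer_iff.1 (hRN (map_subtype_le _ hx)) t).1 ht
      refine ⟨x * t * x⁻¹, h1, ?_⟩
      simp only [MulEquiv.coe_toMonoidHom, MulAut.conj_apply]
      group
    have hP'N : P'G ≤ NS := (map_subtype_le _).trans hR'N
    have hP'p : ¬ p ∣ (P'G.subgroupOf NS).index := by
      intro h
      change p ∣ P'G.relIndex NS at h
      rw [← relIndex_mul_relIndex P'G R' NS (map_subtype_le _) hR'N] at h
      rcases (Fact.out : p.Prime).dvd_mul.1 h with h | h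
      · rw [Subgroup.relIndex, subgroupOf, comap_map_eq_self_of_injective R'.subtype_injective] at h
        exact P'.not_dvd_index h
      · exact hR'p h
    let PS : Sylow p NS := IsPGroup.toSylow (P := P'G.subgroupOf NS)
      ((P'.isPGroup'.map _).of_equiv (subgroupOfEquivOfLe hP'N).symm) hP'p
    obtain ⟨Q, hQ⟩ := (((P.isPGroup'.map _).map _).of_equiv
      (subgroupOfEquivOfLe hAN).symm : IsPGroup p (A.subgroupOf NS)).exists_le_sylow
    obtain ⟨n, hn⟩ := MulAction.exists_smul_eq NS Q PS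
    have hconj : ∀ u ∈ PG, ((n : G) * g) * u * ((n : G) * g)⁻¹ ∈ M := by
      intro u hu
      have h1 : (⟨g * u * g⁻¹, hAN ⟨u, hu, rfl⟩⟩ : NS) ∈ A.subgroupOf NS := ⟨u, hu, rfl⟩
      have h2 : n * (⟨g * u * g⁻¹, hAN ⟨u, hu, rfl⟩⟩ : NS) * n⁻¹ ∈ (PS : Subgroup NS) := by
        rw [← hn]
        exact ⟨_, hQ h1, rfl⟩
      have h3 : (n : G) * (g * u * g⁻¹) * (n : G)⁻¹ ∈ P'G := h2
      simpa [mul_assoc] using (map_subtype_le _).trans hR'M h3
    obtain ⟨m, hm, c, hc, hng⟩ := IH' PG (P.isPGroup'.map _)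
      ((map_subtype_le _).trans hRM) hbig _ hconj
    -- `T` lies in `PG`
    have hTPG : T ≤ PG := by
      have hTN : T ≤ normalizer (T : Set G) := le_normalizer
      let PN : Sylow p ↥(normalizer (T : Set G)) :=
        IsPGroup.toSylow (P := PG.subgroupOf _)
          ((P.isPGroup'.map _).of_equiv (subgroupOfEquivOfLe ((map_subtype_le _).trans hRN)).symm)
          (by
            intro h
            change p ∣ PG.relIndex (normalizer (T : Set G)) at h
            rw [← relIndex_mul_relIndex PG R _ (map_subtype_le _) hRN] at h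
            rcases (Fact.out : p.Prime).dvd_mul.1 h with h | h
            · rw [Subgroup.relIndex, subgroupOf,
                comap_map_eq_self_of_injective R.subtype_injective] at h
              exact P.not_dvd_index h
            · exact hRp h)
      have hn' : (T.subgroupOf (normalizer (T : Set G))).Normal := normal_in_normalizer
      obtain ⟨Q', hQ'⟩ := (hT.of_equiv (subgroupOfEquivOfLe hTN).symm).exists_le_sylow
      obtain ⟨k, hk⟩ := MulAction.exists_smul_eq ↥(normalizer (T : Set G)) Q' PN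
      intro t ht
      have h0 := hQ' (hn'.conj_mem ⟨t, hTN ht⟩ ht k⁻¹)
      have h1 : (⟨t, hTN ht⟩ : ↥(normalizer (T : Set G))) ∈
          (PN : Subgroup ↥(normalizer (T : Set G))) := by
        rw [← hk]
        exact ⟨_, h0, by simp [mul_assoc]⟩
      exact h1
    obtain ⟨m1, hm1, c1, hc1, hn1⟩ := split S R' hR'N hR'M hR'C n n.2
    -- `n * g = m * c` and `n = c1 * m1`
    have hcT : c ∈ centralizer (T : Set G) := centralizer_le hTPG hc
    have hm1S : ∀ s ∈ S, m1 * s * m1⁻¹ ∈ S := by
      intro s hs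
      have h := (mem_normalizer_iff.1 n.2 s).1 hs
      have h' := (mem_centralizer_iff.1 hc1) _ h
      have e : m1 * s * m1⁻¹ = (n : G) * s * (n : G)⁻¹ := by
        calc m1 * s * m1⁻¹ = c1⁻¹ * ((n : G) * s * (n : G)⁻¹ * c1) := by rw [hn1]; group
          _ = c1⁻¹ * (c1 * ((n : G) * s * (n : G)⁻¹)) := by rw [h']
          _ = (n : G) * s * (n : G)⁻¹ := by group
      rw [e]; exact h
    refine ⟨m1⁻¹ * m, M.mul_mem (M.inv_mem hm1) hm, (m⁻¹ * c1⁻¹ * m) * c, mul_mem ?_ hcT, ?_⟩
    · refine mem_centralizer_conj (a := m) (inv_mem hc1) (S := S) (T := T) fun t ht => ?_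
      have h1 : m * t * m⁻¹ = (n : G) * (g * t * g⁻¹) * (n : G)⁻¹ := by
        have hct : c * t * c⁻¹ = t := by
          rw [← (mem_centralizer_iff.1 hcT) t ht, mul_inv_cancel_right]
        calc m * t * m⁻¹ = m * (c * t * c⁻¹) * m⁻¹ := by rw [hct]
          _ = (m * c) * t * (m * c)⁻¹ := by group
          _ = _ := by rw [← hng]; group
      rw [h1]
      exact (mem_normalizer_iff.1 n.2 _).1 ⟨t, ht, rfl⟩
    · calc g = (n : G)⁻¹ * ((n : G) * g) := by group
        _ = _ := by rw [hng, hn1]; group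
  · -- `T` is a Sylow subgroup of `M`
    obtain ⟨TS, hTS⟩ := (hT.of_equiv (subgroupOfEquivOfLe hTM).symm).exists_le_sylow
    have hTmax : Nat.card TS = Nat.card T := by
      by_contra hne
      let TG : Subgroup G := (TS : Subgroup M).map M.subtype
      have hTTG : T ≤ TG := fun t ht => ⟨⟨t, hTM ht⟩, hTS ht, rfl⟩
      have hne' : TG ≠ T := fun h => hne (by
        rw [← h, card_map_of_injective M.subtype_injective])
      have hnil : Group.IsNilpotent TG := (TS.isPGroup'.map M.subtype).isNilpotent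
      have h1 : T.subgroupOf TG < normalizer ((T.subgroupOf TG : Subgroup TG) : Set TG) :=
        Group.normalizerCondition_of_isNilpotent _ (lt_top_iff_ne_top.2 fun h =>
          hne' (le_antisymm (subgroupOf_eq_top.1 h) hTTG))
      let W : Subgroup G := (normalizer ((T.subgroupOf TG : Subgroup TG) : Set TG)).map TG.subtype
      have hW : Nat.card T < Nat.card W := by
        rw [card_map_of_injective TG.subtype_injective,
          ← Nat.card_congr (subgroupOfEquivOfLe hTTG).toEquiv]
        exact Set.Finite.card_lt_card (Set.toFinite _) (SetLike.coe_ssubset_coe.2 h1)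
      have hWN : W ≤ normalizer (T : Set G) := by
        rintro _ ⟨w, hw, rfl⟩
        refine mem_normalizer_of_conj_mem fun t ht => ?_
        exact (mem_normalizer_iff.1 hw ⟨t, hTTG ht⟩).1 ht
      have hWp : IsPGroup p W :=
        ((TS.isPGroup'.map M.subtype).to_subgroup _).map TG.subtype
      obtain ⟨Q, hQ⟩ := (hWp.of_equiv (subgroupOfEquivOfLe hWN).symm).exists_le_sylow
      have hPN : ¬ p ∣ PG.relIndex (normalizer (T : Set G)) := by
        intro h
        rw [← relIndex_mul_relIndex PG R _ (map_subtype_le _) hRN] at h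
        rcases (Fact.out : p.Prime).dvd_mul.1 h with h | h
        · rw [Subgroup.relIndex, subgroupOf,
            comap_map_eq_self_of_injective R.subtype_injective] at h
          exact P.not_dvd_index h
        · exact hRp h
      let PN : Sylow p ↥(normalizer (T : Set G)) :=
        IsPGroup.toSylow (P := PG.subgroupOf _)
          ((P.isPGroup'.map _).of_equiv (subgroupOfEquivOfLe ((map_subtype_le _).trans hRN)).symm)
          hPN
      refine hbig (hW.trans_le ?_)
      calc Nat.card W = Nat.card (W.subgroupOf (normalizer (T : Set G))) :=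
            (Nat.card_congr (subgroupOfEquivOfLe hWN).toEquiv).symm
        _ ≤ Nat.card Q := card_le_of_le hQ
        _ = Nat.card PN := by rw [Q.card_eq_multiplicity, PN.card_eq_multiplicity]
        _ = Nat.card PG :=
            Nat.card_congr (subgroupOfEquivOfLe ((map_subtype_le _).trans hRN)).toEquiv
    obtain ⟨SS, hSS⟩ := ((hT.map _).of_equiv
      (subgroupOfEquivOfLe hSM).symm : IsPGroup p (S.subgroupOf M)).exists_le_sylow
    have hTS' : T.subgroupOf M = TS := eq_of_le_of_card_ge hTS (by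
      rw [hTmax, Nat.card_congr (subgroupOfEquivOfLe hTM).toEquiv])
    have hSS' : S.subgroupOf M = SS := eq_of_le_of_card_ge hSS (by
      rw [SS.card_eq_multiplicity, ← TS.card_eq_multiplicity, hTmax, ← hScard,
        Nat.card_congr (subgroupOfEquivOfLe hSM).toEquiv])
    obtain ⟨m, hm⟩ := MulAction.exists_smul_eq M SS TS
    have hmg : (m : G) * g ∈ normalizer (T : Set G) := by
      refine mem_normalizer_of_conj_mem fun t ht => ?_
      have h1 : (⟨g * t * g⁻¹, hg t ht⟩ : M) ∈ S.subgroupOf M := ⟨t, ht, rfl⟩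
      have h2 : m * (⟨g * t * g⁻¹, hg t ht⟩ : M) * m⁻¹ ∈ (TS : Subgroup M) := by
        rw [← hm]
        exact ⟨_, hSS' ▸ h1, rfl⟩
      rw [← hTS'] at h2
      simpa [mem_subgroupOf, mul_assoc] using h2
    obtain ⟨m1, hm1, c1, hc1, he⟩ := split T R hRN hRM hRC _ hmg
    have hm1N : m1 ∈ normalizer (T : Set G) := by
      have : m1 = c1⁻¹ * ((m : G) * g) := by rw [he]; group
      rw [this]
      exact mul_mem (inv_mem (centralizer_le_normalizer _ hc1)) hmg
    refine ⟨(m : G)⁻¹ * m1, M.mul_mem (M.inv_mem m.2) hm1, m1⁻¹ * c1 * m1,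
      mem_centralizer_conj hc1 (fun t ht => (mem_normalizer_iff.1 hm1N t).1 ht), ?_⟩
    calc g = (m : G)⁻¹ * ((m : G) * g) := by group
      _ = _ := by rw [he]; group

end CfsgLib.DPiHom
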