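import Cfsg.Agent.Lib.DPiHom.Fusion
import Cfsg.Agent.Lib.Characters.BrauerSuzuki

/-!
# A π-homogeneous group with a dominating π-subgroup is π'-closed
-/

set_option autoImplicit false

namespace CfsgLib.DPiHom

open Subgroup

universe u

theorem Homog.subgroup {G : Type u} [Group G] {π : Set ℕ} (hG : Homog π G) (X : Subgroup G) :
    Homog π X := by
  intro H hH x hx q k hq hqπ hxo h hh
  have h1 := hG (H.map X.subtype) (by rwa [card_map_of_injective X.subtype_injective]) x (by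
    refine mem_normalizer_iff.2 fun g => ⟨?_, ?_⟩
    · rintro ⟨a, ha, rfl⟩
      exact ⟨x * a * x⁻¹, (mem_normalizer_iff.1 hx a).1 ha, rfl⟩
    · rintro ⟨a, ha, he⟩
      refine ⟨x⁻¹ * a * x, (mem_normalizer_iff.1 hx _).2 (by simpa [mul_assoc] using ha), ?_⟩
      simp only [map_mul, map_inv, he, coe_subtype]
      group) q k hq hqπ (by rw [orderOf_coe]; exact hxo) h ⟨h, hh, rfl⟩
  exact Subtype.ext h1

theorem dominant_centralizer {G : Type u} [Group G] [Finite G] {π : Set ℕ} {M : Subgroup G}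
    (hM : Dominant π M) (hG : Homog π G) {p : ℕ} [Fact p.Prime] (hp : p ∈ π) {v : G} (hv : v ∈ M)
    (hvp : IsPGroup p (zpowers v)) :
    Dominant π (M.subgroupOf (centralizer ({v} : Set G))) := by
  let C : Subgroup G := centralizer ({v} : Set G)
  refine ⟨?_, fun H hH => ?_⟩
  · refine hM.pi.of_dvd ?_
    rw [← inf_subgroupOf_right, Nat.card_congr (subgroupOfEquivOfLe inf_le_right).toEquiv]
    exact card_dvd_of_le inf_le_left
  · let H' : Subgroup G := H.map C.subtype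
    have hN : H' ≤ normalizer (zpowers v : Set G) := by
      refine le_trans ?_ (centralizer_le_normalizer _)
      rw [zpowers_eq_closure, centralizer_closure]
      exact map_subtype_le H
    have hπ : PiNum π (Nat.card ↥(H' ⊔ zpowers v)) := by
      refine piNum_sup ?_ ?_ hN
      · rwa [card_map_of_injective C.subtype_injective]
      · obtain ⟨k, hk⟩ := IsPGroup.iff_card.1 hvp
        rw [hk]
        exact piNum_pow Fact.out hp k
    obtain ⟨a, ha⟩ := hM.dom _ hπ
    obtain ⟨m, hm, c, hc, he⟩ := controls_p hM hG p hp (zpowers v) hvp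
      ((zpowers_le).2 hv) a (fun t ht => ha t ((le_sup_right : zpowers v ≤ _) ht))
    have hcC : c ∈ C := centralizer_le (Set.singleton_subset_iff.2 (mem_zpowers v)) hc
    refine ⟨⟨c, hcC⟩, fun h hh => ?_⟩
    have h1 := M.mul_mem (M.mul_mem (M.inv_mem hm)
      (ha h ((le_sup_left : H' ≤ _) ⟨h, hh, rfl⟩))) hm
    change c * (h : G) * c⁻¹ ∈ M
    simpa [he, mul_assoc] using h1

/-- Elements of `M` conjugate in `G` are conjugate in `M`. -/
theorem controls_elements {π : Set ℕ} (n : ℕ) : ∀ {G : Type u} [Group G] [Finite G]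
    {M : Subgroup G}, Dominant π M → Homog π G → ∀ x ∈ M, orderOf x = n →
    ∀ g : G, g * x * g⁻¹ ∈ M → ∃ m ∈ M, m * x * m⁻¹ = g * x * g⁻¹ := by
  induction n using Nat.strong_induction_on with
  | _ n IH =>
  intro G _ _ M hM hG x hxM hn g hg
  rcases eq_or_ne n 1 with rfl | hn1
  · rw [orderOf_eq_one_iff] at hn
    exact ⟨1, M.one_mem, by simp [hn]⟩
  obtain ⟨p, hpp, hpn⟩ := Nat.exists_prime_and_dvd hn1
  have : Fact p.Prime := ⟨hpp⟩
  have hnpos : n ≠ 0 := hn ▸ (orderOf_pos x).ne'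
  have hpπ : p ∈ π := hM.pi p hpp (hpn.trans (hn ▸ M.orderOf_dvd_natCard hxM))
  obtain ⟨k, r, hr, hkr⟩ := Nat.exists_eq_pow_mul_and_not_dvd hnpos p hpp.ne_one
  have hcop : Nat.Coprime (p ^ k) r := Nat.Coprime.pow_left k ((hpp.coprime_iff_not_dvd).2 hr)
  obtain ⟨a, ha1, ha0⟩ := Nat.chineseRemainder hcop 1 0
  obtain ⟨b, hb0, hb1⟩ := Nat.chineseRemainder hcop 0 1
  have hxab : x = x ^ a * x ^ b := by
    rw [← pow_add]
    conv_lhs => rw [← pow_one x]
    refine pow_eq_pow_iff_modEq.2 ?_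
    rw [hn, hkr]
    refine (Nat.modEq_and_modEq_iff_modEq_mul hcop).1 ⟨?_, ?_⟩
    · simpa using (ha1.add hb0).symm
    · simpa using (ha0.add hb1).symm
  set u := x ^ a with hu
  set v := x ^ b with hv
  have hvo : orderOf v < n := by
    have h1 : orderOf v ∣ r := orderOf_dvd_of_pow_eq_one (by
      rw [hv, ← pow_mul, ← orderOf_dvd_iff_pow_eq_one, hn, hkr]
      exact Nat.mul_dvd_mul (Nat.modEq_zero_iff_dvd.1 hb0) dvd_rfl)
    have hk : k ≠ 0 := by
      rintro rfl
      rw [pow_zero, one_mul] at hkr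
      exact hr (hkr ▸ hpn)
    have hr0 : 0 < r := Nat.pos_of_ne_zero fun h => hnpos (by rw [hkr, h, mul_zero])
    refine (Nat.le_of_dvd hr0 h1).trans_lt ?_
    rw [hkr]
    exact lt_mul_of_one_lt_left hr0 (Nat.one_lt_pow hk hpp.one_lt)
  have hup : IsPGroup p (zpowers u) := by
    have h1 : orderOf u ∣ p ^ k := orderOf_dvd_of_pow_eq_one (by
      rw [hu, ← pow_mul, ← orderOf_dvd_iff_pow_eq_one, hn, hkr, mul_comm a]
      exact Nat.mul_dvd_mul dvd_rfl (Nat.modEq_zero_iff_dvd.1 ha0))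
    obtain ⟨j, -, hj⟩ := (Nat.dvd_prime_pow hpp).1 h1
    exact IsPGroup.of_card (n := j) (by rw [Nat.card_zpowers, hj])
  have huM : u ∈ M := M.pow_mem hxM a
  have hvM : v ∈ M := M.pow_mem hxM b
  have hgu : g * u * g⁻¹ ∈ M := by
    rw [hu, ← conj_pow]; exact M.pow_mem hg a
  have hgv : g * v * g⁻¹ ∈ M := by
    rw [hv, ← conj_pow]; exact M.pow_mem hg b
  obtain ⟨m, hm, c, hc, hgmc⟩ := controls_p hM hG p hpπ _ hup (zpowers_le.2 huM) g (by
    intro t ht
    obtain ⟨i, rfl⟩ := mem_zpowers_iff.1 ht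
    rw [← conj_zpow]
    exact M.zpow_mem hgu i)
  let C : Subgroup G := centralizer ({u} : Set G)
  have hcC : c ∈ C := centralizer_le (Set.singleton_subset_iff.2 (mem_zpowers u)) hc
  have hvC : v ∈ C := mem_centralizer_singleton_iff.2 (Commute.pow_pow_self x b a).eq
  have hcv : c * v * c⁻¹ ∈ M := by
    have h1 := M.mul_mem (M.mul_mem (M.inv_mem hm) hgv) hm
    simpa [hgmc, mul_assoc] using h1
  obtain ⟨m', hm', he⟩ := IH _ hvo (dominant_centralizer hM hG hpπ huM hup)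
    (hG.subgroup C) (⟨v, hvC⟩ : C) (show v ∈ M from hvM)
    (by rw [Subgroup.orderOf_mk]) ⟨c, hcC⟩ (show c * v * c⁻¹ ∈ M from hcv)
  have he' : (m' : G) * v * (m' : G)⁻¹ = c * v * c⁻¹ := congrArg Subtype.val he
  have hcu : c * u * c⁻¹ = u := by
    rw [mem_centralizer_singleton_iff.1 hcC, mul_inv_cancel_right]
  have hm'u : (m' : G) * u * (m' : G)⁻¹ = u := by
    rw [mem_centralizer_singleton_iff.1 m'.2, mul_inv_cancel_right]
  refine ⟨m * m', M.mul_mem hm hm', ?_⟩
  conv_lhs => rw [hxab]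
  conv_rhs => rw [hxab, hgmc]
  calc m * m' * (u * v) * (m * m')⁻¹
      = m * ((m' : G) * u * (m' : G)⁻¹) * ((m' : G) * v * (m' : G)⁻¹) * m⁻¹ := by group
    _ = m * (c * u * c⁻¹) * (c * v * c⁻¹) * m⁻¹ := by rw [he', hm'u, hcu]
    _ = m * c * (u * v) * (m * c)⁻¹ := by group

/-- A π-homogeneous group with a dominating π-subgroup is π'-closed. -/
theorem closed {G : Type u} [Group G] [Finite G] {π : Set ℕ} {M : Subgroup G}
    (hM : Dominant π M) (hG : Homog π G) :
    ∃ K : Subgroup G, ∀ x : G, x ∈ K ↔ ∀ p : ℕ, p.Prime → p ∣ orderOf x → p ∉ π := by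
  classical
  have : Fintype G := Fintype.ofFinite G
  have : Fintype M := Fintype.ofFinite _
  have hidx : ∀ p : ℕ, p.Prime → p ∈ π → ¬ p ∣ M.index := by
    intro p hp hpπ hd
    have : Fact p.Prime := ⟨hp⟩
    obtain ⟨P⟩ : Nonempty (Sylow p G) := inferInstance
    obtain ⟨k, hk⟩ := IsPGroup.iff_card.1 P.isPGroup'
    obtain ⟨g, hg⟩ := hM.dom P (hk ▸ piNum_pow hp hpπ k)
    have hle : (P : Subgroup G).map (MulAut.conj g).toMonoidHom ≤ M := by
      rintro _ ⟨t, ht, rfl⟩; exact hg t ht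
    refine P.not_dvd_index ?_
    rw [← index_map_equiv (P : Subgroup G) (MulAut.conj g)]
    exact hd.trans (index_dvd_of_le hle)
  have hall : Nat.Coprime (Nat.card M) M.index :=
    Nat.coprime_of_dvd fun p hp h1 h2 => hidx p hp (hM.pi p hp h1) h2
  obtain ⟨K, hKn, hsup, hinf⟩ := CfsgLib.BrauerSuzuki.normal_complement (H := M) ⟨hall, by
      intro x hx y hy hc
      obtain ⟨g, rfl⟩ := isConj_iff.1 hc
      exact controls_elements _ hM hG x hx rfl g hy, by
      intro E p _ _ hd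
      obtain ⟨g, hg⟩ := hM.dom E (hM.pi.of_dvd hd)
      exact ⟨g, by rintro _ ⟨t, ht, rfl⟩; exact hg t ht⟩⟩
  have hKidx : K.index = Nat.card M := by
    rw [← relIndex_top_right, ← hsup, relIndex_sup_left, ← inf_relIndex_right, hinf,
      relIndex_bot_left]
  have hKc : Nat.card K = M.index := by
    have h1 := K.card_mul_index
    rw [hKidx, ← M.card_mul_index, mul_comm] at h1
    exact Nat.eq_of_mul_eq_mul_left Nat.card_pos h1
  refine ⟨K, fun x => ⟨fun hx p hp hd hpπ => ?_, fun h => ?_⟩⟩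
  · exact hidx p hp hpπ (hKc ▸ hd.trans (K.orderOf_dvd_natCard hx))
  · rw [← QuotientGroup.eq_one_iff, ← orderOf_eq_one_iff]
    refine Nat.eq_one_of_dvd_coprimes (a := orderOf x) (b := Nat.card M)
      (Nat.coprime_of_dvd fun p hp h1 h2 => h p hp h1 (hM.pi p hp h2))
      (orderOf_map_dvd (QuotientGroup.mk' K) x) ?_
    rw [← hKidx]
    exact orderOf_dvd_natCard _

theorem homog_of_relIndex {G : Type u} [Group G] [Finite G] {π : Set ℕ}
    (hhom : ∀ H : Subgroup G, H ≠ ⊥ → (∀ p : ℕ, p.Prime → p ∣ Nat.card ↥H → p ∈ π) →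
      ∀ p : ℕ, p.Prime →
        p ∣ (centralizer (H : Set G)).relIndex (normalizer (H : Set G)) → p ∈ π) :
    Homog π G := by
  intro H hH x hx q k hq hqπ hxo h hh
  rcases eq_or_ne H ⊥ with rfl | hne
  · rw [mem_bot] at hh; simp [hh]
  let N : Subgroup G := normalizer (H : Set G)
  let C : Subgroup N := (centralizer (H : Set G)).subgroupOf N
  have hCn : C.Normal := by
    refine ⟨fun c hc n => ?_⟩
    change (n : G) * c * (n : G)⁻¹ ∈ centralizer (H : Set G)
    have h1 : ∀ t ∈ H, (n : G)⁻¹ * t * ((n : G)⁻¹)⁻¹ ∈ H := fun t ht =>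
      (mem_normalizer_iff.1 (inv_mem n.2) t).1 ht
    simpa using mem_centralizer_conj (a := (n : G)⁻¹) hc h1
  have h1 : (QuotientGroup.mk (⟨x, hx⟩ : N) : N ⧸ C) = 1 := by
    rw [← orderOf_eq_one_iff]
    by_contra hne1
    obtain ⟨p, hp, hpd⟩ := Nat.exists_prime_and_dvd hne1
    have h2 : p ∣ q ^ k := by
      rw [← hxo]
      exact hpd.trans ((orderOf_map_dvd (QuotientGroup.mk' C) _).trans
        (dvd_of_eq (Subgroup.orderOf_mk x hx)))
    rw [(Nat.prime_dvd_prime_iff_eq hp hq).1 (hp.dvd_of_dvd_pow h2)] at hpd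
    exact hqπ (hhom H hne hH q hq (hpd.trans (orderOf_dvd_natCard _)))
  rw [QuotientGroup.eq_one_iff] at h1
  exact ((mem_centralizer_iff.1 h1) h hh).symm

theorem exists_dominant {G : Type u} [Group G] [Finite G] {π : Set ℕ}
    (hD : Cfsg.IsDPiGroup π G) : ∃ M : Subgroup G, Dominant π M := by
  classical
  have key : ∀ H : Subgroup G, Cfsg.IsPiSubgroup π H →
      ∃ K, H ≤ K ∧ Maximal (Cfsg.IsPiSubgroup π) K :=
    fun H hH => Finite.exists_le_maximal hH
  obtain ⟨M, -, hM⟩ := key ⊥ (fun p hp h => absurd (Subgroup.card_bot (G := G) ▸ h) hp.not_dvd_one)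
  refine ⟨M, hM.prop, fun H hH => ?_⟩
  obtain ⟨K, hHK, hK⟩ := key H hH
  obtain ⟨g, rfl⟩ := hD M K hM hK
  refine ⟨g⁻¹, fun h hh => ?_⟩
  obtain ⟨m, hm, rfl⟩ := hHK hh
  simpa [mul_assoc] using hm

end CfsgLib.DPiHom
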